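import Mathlib

/-!
# A congruence modulo 2 for the sign of the non-split Hasse-Davenport formula for `ℓ = 2`
-/

set_option autoImplicit false

namespace Cfsg.Agent.H32.KGV

open Finset

variable {K R : Type*} [Field K] [Fintype K] [CommRing R]

/-- A symmetric function summed over ordered pairs of distinct elements vanishes in
characteristic 2. -/
theorem sum_pairs_eq_zero {ι : Type*} [DecidableEq ι] (hR : (2 : R) = 0) (S : Finset ι) (g : ι → ι → R)
    (hg : ∀ a b, g a b = g b a) :
    ∑ x ∈ (S ×ˢ S).filter (fun x => x.1 ≠ x.2), g x.1 x.2 = 0 := by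
  refine Finset.sum_involution (fun x _ => (x.2, x.1)) ?_ ?_ ?_ ?_
  · rintro ⟨a, b⟩ _
    show g a b + g b a = 0
    rw [hg b a, ← two_mul, hR, zero_mul]
  · rintro ⟨a, b⟩ hx _ h
    simp only [mem_filter, Prod.mk.injEq] at hx h
    exact hx.2 h.2
  · rintro ⟨a, b⟩ hx
    simp only [mem_filter, mem_product] at hx ⊢
    exact ⟨⟨hx.1.2, hx.1.1⟩, fun h => hx.2 h.symm⟩
  · rintro ⟨a, b⟩ _
    rfl

open Classical in
/-- The nonzero squares. -/
noncomputable def sqs (K : Type*) [Field K] [Fintype K] : Finset K :=
  univ.filter fun s => s ≠ 0 ∧ IsSquare s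

open Classical in
theorem mem_sqs {s : K} : s ∈ sqs K ↔ s ≠ 0 ∧ IsSquare s := by
  simp [sqs]

open Classical in
/-- The pairs `(t, n)` with `n` a nonzero square and `t ^ 2 - 4 n` not a square. -/
noncomputable def prs (K : Type*) [Field K] [Fintype K] : Finset (K × K) :=
  univ.filter fun d => d.2 ≠ 0 ∧ IsSquare d.2 ∧ ¬ IsSquare (d.1 ^ 2 - 4 * d.2)

open Classical in
theorem mem_prs {d : K × K} :
    d ∈ prs K ↔ d.2 ≠ 0 ∧ IsSquare d.2 ∧ ¬ IsSquare (d.1 ^ 2 - 4 * d.2) := by
  simp [prs]

open Classical in
theorem char2_identity (h2 : (2 : K) ≠ 0) (hR : (2 : R) = 0) (ψ : AddChar K R) (c : K → R) :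
    ∑ s ∈ sqs K, ψ (2 * s) * c (s ^ 2) +
      (∑ s ∈ sqs K, ψ s) * (∑ y ∈ univ.filter (fun y : K => y ≠ 0), ψ (2 * y) * c (y ^ 2)) +
      ∑ d ∈ prs K, ψ d.1 * c d.2 = 0 := by
  have h4 : (4 : K) ≠ 0 := by
    have : (4 : K) = 2 * 2 := by norm_num
    rw [this]; exact mul_ne_zero h2 h2
  set g : K → K → R := fun s u => ψ ((s + u) / 2) * c (((u - s) / 4) ^ 2) with hg
  have hgs : ∀ a b, g a b = g b a := by
    intro a b
    simp only [hg]
    rw [add_comm a b]
    congr 2
    ring
  -- the second sum
  have hsecond : (∑ s ∈ sqs K, ψ s) *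
      (∑ y ∈ univ.filter (fun y : K => y ≠ 0), ψ (2 * y) * c (y ^ 2)) =
      ∑ s ∈ sqs K, ∑ u ∈ univ.filter (fun u : K => u ≠ s), g s u := by
    rw [Finset.sum_mul]
    refine Finset.sum_congr rfl fun s _ => ?_
    rw [Finset.mul_sum]
    refine Finset.sum_bij' (fun y _ => s + 4 * y) (fun u _ => (u - s) / 4) ?_ ?_ ?_ ?_ ?_
    · intro y hy
      simp only [mem_filter, mem_univ, true_and] at hy ⊢
      intro h
      have : 4 * y = 0 := by linear_combination h
      rcases mul_eq_zero.1 this with h | h
      · exact h4 h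
      · exact hy h
    · intro u hu
      simp only [mem_filter, mem_univ, true_and] at hu ⊢
      exact div_ne_zero (sub_ne_zero.2 hu) h4
    · intro y _
      field_simp
      ring
    · intro u _
      field_simp
      ring
    · intro y _
      simp only [hg]
      rw [← mul_assoc, ← AddChar.map_add_eq_mul]
      have e1 : (s + (s + 4 * y)) / 2 = s + 2 * y := by field_simp; ring
      have e2 : (s + 4 * y - s) / 4 = y := by field_simp; ring
      rw [e1, e2]
  -- split the inner sum
  have hsplit : ∀ s ∈ sqs K, ∑ u ∈ univ.filter (fun u : K => u ≠ s), g s u =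
      (∑ u ∈ (sqs K).filter (fun u => s ≠ u), g s u) + g s 0 +
        ∑ u ∈ univ.filter (fun u : K => ¬ IsSquare u), g s u := by
    intro s hs
    obtain ⟨hs0, hs1⟩ := mem_sqs.1 hs
    have e : univ.filter (fun u : K => u ≠ s) =
        ((sqs K).filter (fun u => s ≠ u) ∪ {0}) ∪ univ.filter (fun u : K => ¬ IsSquare u) := by
      ext u
      simp only [mem_filter, mem_univ, true_and, mem_union, mem_sqs, mem_singleton]
      constructor
      · intro h
        by_cases h0 : u = 0
        · exact Or.inl (Or.inr h0)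
        · by_cases h1 : IsSquare u
          · exact Or.inl (Or.inl ⟨⟨h0, h1⟩, fun h' => h h'.symm⟩)
          · exact Or.inr h1
      · rintro ((h | h) | h)
        · exact fun h' => h.2 h'.symm
        · rw [h]; exact fun h' => hs0 h'.symm
        · rintro rfl; exact h hs1
    rw [e, Finset.sum_union, Finset.sum_union, Finset.sum_singleton]
    · rw [Finset.disjoint_left]
      intro u hu hu'
      simp only [mem_filter, mem_sqs, mem_singleton] at hu hu'
      exact hu.1.1 hu'
    · rw [Finset.disjoint_left]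
      intro u hu hu'
      simp only [mem_filter, mem_univ, true_and, mem_union, mem_sqs, mem_singleton] at hu hu'
      rcases hu with hu | hu
      · exact hu' hu.1.2
      · rw [hu] at hu'; exact hu' IsSquare.zero
  rw [hsecond, Finset.sum_congr rfl hsplit, Finset.sum_add_distrib, Finset.sum_add_distrib]
  -- ordered pairs of distinct squares
  have hA : ∑ s ∈ sqs K, ∑ u ∈ (sqs K).filter (fun u => s ≠ u), g s u = 0 := by
    rw [← sum_pairs_eq_zero hR (sqs K) g hgs, Finset.sum_filter, Finset.sum_product]
    refine Finset.sum_congr rfl fun s _ => ?_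
    rw [Finset.sum_filter]
  -- `u = 0`
  have hB : ∑ s ∈ sqs K, g s 0 = ∑ s ∈ sqs K, ψ (2 * s) * c (s ^ 2) := by
    refine Finset.sum_bij' (fun s _ => s / 4) (fun s _ => 4 * s) ?_ ?_ ?_ ?_ ?_
    · intro s hs
      obtain ⟨h0, r, rfl⟩ := mem_sqs.1 hs
      refine mem_sqs.2 ⟨div_ne_zero h0 h4, r / 2, ?_⟩
      field_simp; ring
    · intro s hs
      obtain ⟨h0, r, rfl⟩ := mem_sqs.1 hs
      exact mem_sqs.2 ⟨mul_ne_zero h4 h0, 2 * r, by ring⟩
    · intro s _
      field_simp
    · intro s _
      field_simp
    · intro s _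
      simp only [hg]
      have e1 : (s + 0) / 2 = 2 * (s / 4) := by field_simp; ring
      have e2 : ((0 - s) / 4) ^ 2 = (s / 4) ^ 2 := by ring
      rw [e1, e2]
  -- nonsquares
  have hC : ∑ s ∈ sqs K, ∑ u ∈ univ.filter (fun u : K => ¬ IsSquare u), g s u =
      ∑ d ∈ prs K, ψ d.1 * c d.2 := by
    rw [← Finset.sum_product' (sqs K) (univ.filter (fun u : K => ¬ IsSquare u)) g]
    refine Finset.sum_bij (fun x _ => ((x.1 + x.2) / 2, ((x.2 - x.1) / 4) ^ 2)) ?_ ?_ ?_ ?_
    · rintro ⟨s, u⟩ hx
      simp only [mem_product, mem_filter, mem_univ, true_and] at hx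
      obtain ⟨hs, hu⟩ := hx
      obtain ⟨hs0, hs1⟩ := mem_sqs.1 hs
      refine mem_prs.2 ⟨?_, ⟨(u - s) / 4, by ring⟩, ?_⟩
      · refine pow_ne_zero _ (div_ne_zero (sub_ne_zero.2 ?_) h4)
        intro h
        exact hu (by have h : u = s := h
                     rw [h]; exact hs1)
      · intro h
        have e : ((s + u) / 2) ^ 2 - 4 * ((u - s) / 4) ^ 2 = s * u := by field_simp; ring
        simp only [e] at h
        apply hu
        obtain ⟨r, rfl⟩ := hs1
        obtain ⟨t, ht⟩ := h
        have hr : r ≠ 0 := fun h => hs0 (by rw [h, mul_zero])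
        refine ⟨t / r, ?_⟩
        field_simp
        linear_combination ht
    · rintro ⟨s, u⟩ hx ⟨s', u'⟩ hx' h
      simp only [mem_product, mem_filter, mem_univ, true_and] at hx hx'
      simp only [Prod.mk.injEq] at h ⊢
      obtain ⟨hs, hu⟩ := hx
      obtain ⟨hs', hu'⟩ := hx'
      obtain ⟨hs0, hs1⟩ := mem_sqs.1 hs
      obtain ⟨hs0', hs1'⟩ := mem_sqs.1 hs'
      obtain ⟨h1, h2'⟩ := h
      have h1 : s + u = s' + u' := by
        have := congrArg (fun x => x * 2) h1
        simpa [h2] using this
      have h3 : (u - s) ^ 2 = (u' - s') ^ 2 := by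
        have := congrArg (fun x => x * 4 ^ 2) h2'
        simp only [div_pow, div_mul_cancel₀ _ (pow_ne_zero 2 h4)] at this
        exact this
      rcases sq_eq_sq_iff_eq_or_eq_neg.1 h3 with h3 | h3
      · have hu : u = u' := by
          have : 2 * u = 2 * u' := by linear_combination h1 + h3
          exact mul_left_cancel₀ h2 this
        refine ⟨?_, hu⟩
        rw [hu] at h1
        exact add_right_cancel h1
      · exfalso
        have : 2 * u = 2 * s' := by linear_combination h1 + h3
        have hu2 : u = s' := mul_left_cancel₀ h2 this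
        exact hu (hu2 ▸ hs1')
    · rintro ⟨t, n⟩ hd
      obtain ⟨hn0, ⟨m, hm⟩, hns⟩ := mem_prs.1 hd
      simp only at hn0 hm hns
      have hm0 : m ≠ 0 := by rintro rfl; exact hn0 (by rw [hm, mul_zero])
      have e : t ^ 2 - 4 * n = (t - 2 * m) * (t + 2 * m) := by rw [hm]; ring
      rw [e] at hns
      have hne1 : t - 2 * m ≠ 0 := by
        intro h; rw [h, zero_mul] at hns; exact hns IsSquare.zero
      have hne2 : t + 2 * m ≠ 0 := by
        intro h; rw [h, mul_zero] at hns; exact hns IsSquare.zero
      by_cases h1 : IsSquare (t - 2 * m)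
      · have h2' : ¬ IsSquare (t + 2 * m) := fun h => hns (h1.mul h)
        refine ⟨(t - 2 * m, t + 2 * m), ?_, ?_⟩
        · simp only [mem_product, mem_filter, mem_univ, true_and]
          exact ⟨mem_sqs.2 ⟨hne1, h1⟩, h2'⟩
        · simp only [Prod.mk.injEq]
          constructor
          · field_simp; ring
          · rw [hm]; field_simp; ring
      · by_cases h2' : IsSquare (t + 2 * m)
        · refine ⟨(t + 2 * m, t - 2 * m), ?_, ?_⟩
          · simp only [mem_product, mem_filter, mem_univ, true_and]
            exact ⟨mem_sqs.2 ⟨hne2, h2'⟩, h1⟩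
          · simp only [Prod.mk.injEq]
            constructor
            · field_simp; ring
            · rw [hm]; field_simp; ring
        · exfalso
          apply hns
          have hchar : ringChar K ≠ 2 := by
            intro h
            apply h2
            have := (ringChar.spec K 2).2 (by rw [h])
            exact_mod_cast this
          rw [← quadraticChar_neg_one_iff_not_isSquare] at h1 h2'
          have := (quadraticChar_one_iff_isSquare (mul_ne_zero hne1 hne2)).1
            (by rw [map_mul, h1, h2']; norm_num)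
          exact this
    · rintro ⟨s, u⟩ _
      rfl
  rw [hA, hB, hC, zero_add]
  have : ∀ a b : R, a + (a + b) + b = 0 := by
    intro a b
    have : a + (a + b) + b = 2 * (a + b) := by ring
    rw [this, hR, zero_mul]
  exact this _ _

end Cfsg.Agent.H32.KGV
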