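import Mathlib

/-!
# Quadratic extensions of finite fields of odd characteristic
-/

set_option autoImplicit false

namespace Cfsg.Agent.H32.KGV

open Finset

section

variable {K L : Type*} [Field K] [Fintype K] [Field L] [Fintype L] [Algebra K L]

theorem trace_eq (hf : Module.finrank K L = 2) (x : L) :
    algebraMap K L (Algebra.trace K L x) = x + x ^ Fintype.card K := by
  rw [FiniteField.algebraMap_trace_eq_sum_pow, hf]
  simp [Finset.sum_range_succ]

theorem norm_eq (hf : Module.finrank K L = 2) (x : L) :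
    algebraMap K L (Algebra.norm K x) = x * x ^ Fintype.card K := by
  rw [FiniteField.algebraMap_norm_eq_prod_pow, hf]
  simp [Finset.prod_range_succ]

/-- Frobenius. -/
noncomputable abbrev fr (K L : Type*) [Field K] [Fintype K] [Field L] [Algebra K L] : L →ₐ[K] L :=
  FiniteField.frobeniusAlgHom K L

theorem fr_apply (x : L) : fr K L x = x ^ Fintype.card K := rfl

theorem card_eq (hf : Module.finrank K L = 2) : Fintype.card L = Fintype.card K ^ 2 := by
  rw [Module.card_eq_pow_finrank (K := K) (V := L), hf]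

theorem fr_fr (hf : Module.finrank K L = 2) (x : L) : fr K L (fr K L x) = x := by
  rw [fr_apply, fr_apply, ← pow_mul, ← pow_two, ← card_eq hf, FiniteField.pow_card]

theorem trace_fr (hf : Module.finrank K L = 2) (x : L) :
    Algebra.trace K L (fr K L x) = Algebra.trace K L x := by
  apply (algebraMap K L).injective
  rw [trace_eq hf, trace_eq hf, ← fr_apply, ← fr_apply, fr_fr hf, add_comm]

theorem norm_fr (hf : Module.finrank K L = 2) (x : L) :
    Algebra.norm K (fr K L x) = Algebra.norm K x := by
  apply (algebraMap K L).injective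
  rw [norm_eq hf, norm_eq hf, ← fr_apply, ← fr_apply, fr_fr hf, mul_comm]

theorem two_ne (h2 : ringChar K ≠ 2) : (2 : K) ≠ 0 := by
  intro h
  have h' : ((2 : ℕ) : K) = 0 := by exact_mod_cast h
  have h3 := (ringChar.spec K 2).1 h'
  have h4 : (ringChar K).Prime := CharP.char_is_prime K _
  exact h2 ((Nat.prime_dvd_prime_iff_eq h4 Nat.prime_two).1 h3)

theorem two_ne' (h2 : ringChar K ≠ 2) : (2 : L) ≠ 0 := by
  have := two_ne h2
  intro h
  apply this
  apply (algebraMap K L).injective
  rw [map_ofNat, map_zero, h]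

theorem fr_eq_iff (hf : Module.finrank K L = 2) (h2 : ringChar K ≠ 2) (x : L) :
    fr K L x = x ↔ ∃ k : K, algebraMap K L k = x := by
  constructor
  · intro h
    refine ⟨Algebra.trace K L x / 2, ?_⟩
    have h3 := two_ne' (K := K) (L := L) h2
    rw [map_div₀, trace_eq hf, ← fr_apply, h, map_ofNat]
    field_simp
    ring
  · rintro ⟨k, rfl⟩
    exact AlgHom.commutes _ _

theorem not_isSquare_disc (hf : Module.finrank K L = 2) (h2 : ringChar K ≠ 2) {y : L}
    (hy : ∀ k : K, algebraMap K L k ≠ y) :
    ¬ IsSquare (Algebra.trace K L y ^ 2 - 4 * Algebra.norm K y) := by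
  rintro ⟨d, hd⟩
  have h3 := two_ne' (K := K) (L := L) h2
  have e : (y - fr K L y) ^ 2 = (algebraMap K L d) ^ 2 := by
    have := congrArg (algebraMap K L) hd
    rw [map_sub, map_pow, map_mul, map_mul, trace_eq hf, norm_eq hf, map_ofNat] at this
    rw [fr_apply]
    linear_combination this
  have ht := trace_eq hf y
  rw [← fr_apply] at ht
  rcases sq_eq_sq_iff_eq_or_eq_neg.1 e with e | e
  · apply hy ((Algebra.trace K L y + d) / 2)
    rw [map_div₀, map_add, ht, ← e, map_ofNat]
    field_simp
    ring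
  · apply hy ((Algebra.trace K L y - d) / 2)
    have e' : algebraMap K L d = - (y - fr K L y) := by rw [e, neg_neg]
    rw [map_div₀, map_sub, ht, e', map_ofNat]
    field_simp
    ring

theorem eq_or_eq_fr (hf : Module.finrank K L = 2) {y z : L}
    (ht : Algebra.trace K L y = Algebra.trace K L z) (hn : Algebra.norm K y = Algebra.norm K z) :
    z = y ∨ z = fr K L y := by
  have e1 : y + fr K L y = z + fr K L z := by
    rw [fr_apply, fr_apply, ← trace_eq hf, ← trace_eq hf, ht]
  have e2 : y * fr K L y = z * fr K L z := by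
    rw [fr_apply, fr_apply, ← norm_eq hf, ← norm_eq hf, hn]
  have : (z - y) * (z - fr K L y) = 0 := by linear_combination e2 - z * e1
  rcases mul_eq_zero.1 this with h | h
  · exact Or.inl (sub_eq_zero.1 h)
  · exact Or.inr (sub_eq_zero.1 h)

theorem exists_sqrt (hf : Module.finrank K L = 2) (h2 : ringChar K ≠ 2) (a : K) (ha : a ≠ 0) :
    ∃ d : L, d ^ 2 = algebraMap K L a := by
  have hodd : Fintype.card K % 2 = 1 := FiniteField.odd_card_of_char_ne_two h2
  have hL2 : ringChar L ≠ 2 := by
    rw [← Algebra.ringChar_eq K L]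
    exact h2
  have h : IsSquare (algebraMap K L a) := by
    rw [FiniteField.isSquare_iff hL2 ((map_ne_zero _).2 ha), ← map_pow]
    have hq : Fintype.card L / 2 = (Fintype.card K - 1) * ((Fintype.card K + 1) / 2) := by
      rw [card_eq hf]
      obtain ⟨m, hm⟩ : ∃ m, Fintype.card K = 2 * m + 1 := ⟨Fintype.card K / 2, by omega⟩
      rw [hm]
      have e1 : (2 * m + 1 + 1) / 2 = m + 1 := by omega
      have e2 : (2 * m + 1) ^ 2 = 2 * (2 * m * (m + 1)) + 1 := by ring
      rw [e1, e2]
      have e3 : 2 * m + 1 - 1 = 2 * m := by omega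
      rw [e3]
      omega
    rw [hq, pow_mul, FiniteField.pow_card_sub_one_eq_one a ha, one_pow, map_one]
  obtain ⟨d, hd⟩ := h
  exact ⟨d, by rw [pow_two, hd]⟩

theorem exists_root (hf : Module.finrank K L = 2) (h2 : ringChar K ≠ 2) {t n : K}
    (h : ¬ IsSquare (t ^ 2 - 4 * n)) :
    ∃ y : L, (∀ k : K, algebraMap K L k ≠ y) ∧ Algebra.trace K L y = t ∧ Algebra.norm K y = n := by
  have h0 : t ^ 2 - 4 * n ≠ 0 := fun h' => h (by rw [h']; exact IsSquare.zero)
  obtain ⟨d, hd⟩ := exists_sqrt (L := L) hf h2 _ h0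
  have h3 := two_ne' (K := K) (L := L) h2
  have h3' := two_ne h2
  have hdr : ∀ k : K, algebraMap K L k ≠ d := by
    rintro k rfl
    rw [← map_pow] at hd
    have := (algebraMap K L).injective hd
    exact h ⟨k, by rw [← this, pow_two]⟩
  have hfd : fr K L d = - d := by
    have e : (fr K L d) ^ 2 = d ^ 2 := by
      rw [← map_pow, hd, AlgHom.commutes]
    rcases sq_eq_sq_iff_eq_or_eq_neg.1 e with e | e
    · exact absurd ((fr_eq_iff hf h2 d).1 e) (by rintro ⟨k, hk⟩; exact hdr k hk)
    · exact e
  have hfy : fr K L ((algebraMap K L t + d) / 2) = (algebraMap K L t - d) / 2 := by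
    rw [map_div₀, map_add, AlgHom.commutes, hfd, map_ofNat, sub_eq_add_neg]
  refine ⟨(algebraMap K L t + d) / 2, ?_, ?_, ?_⟩
  · intro k hk
    apply hdr (2 * k - t)
    rw [map_sub, map_mul, hk, map_ofNat]
    field_simp
    ring
  · apply (algebraMap K L).injective
    rw [trace_eq hf, ← fr_apply, hfy]
    field_simp
    ring
  · apply (algebraMap K L).injective
    rw [norm_eq hf, ← fr_apply, hfy]
    have e : (algebraMap K L t + d) / 2 * ((algebraMap K L t - d) / 2) =
        ((algebraMap K L t) ^ 2 - d ^ 2) / (2 * 2) := by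
      field_simp
      ring
    rw [e, hd, ← map_pow, ← map_sub]
    have e2 : t ^ 2 - (t ^ 2 - 4 * n) = (2 * 2) * n := by ring
    rw [e2, map_mul, map_mul, map_ofNat]
    field_simp

end

end Cfsg.Agent.H32.KGV
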