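import Cfsg.Agent.H32.KGV.CharTwo
import Cfsg.Agent.H32.KGV.Quad
import Cfsg.Agent.H644.KGV.Defs

/-!
# The sign in the non-split Hasse-Davenport formula for `ℓ = 2`
-/

set_option autoImplicit false
set_option linter.unusedSectionVars false

namespace Cfsg.Agent.H32.KGV

open Finset Cfsg.Agent.H644.KGV

/-! ## Multiplicative characters -/

section chars

variable {K L : Type} [Field K] [Fintype K] [Field L] [Fintype L] [Algebra K L]

theorem mulNorm_apply (χ : MulChar K ℂ) (y : L) :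
    (mulNorm (L := L) χ : MulChar L ℂ) y = χ (Algebra.norm K y) := by
  by_cases hy : y = 0
  · subst hy
    rw [Algebra.norm_zero, MulChar.map_nonunit _ not_isUnit_zero,
      MulChar.map_nonunit _ not_isUnit_zero]
  · obtain ⟨u, rfl⟩ : IsUnit y := isUnit_iff_ne_zero.2 hy
    rw [mulNorm, MulChar.ofUnitHom_coe]
    rfl

theorem addTrace_apply (ψ : AddChar K ℂ) (y : L) :
    addTrace L ψ y = ψ (Algebra.trace K L y) := rfl

theorem norm_ne_zero' {y : L} (hy : y ≠ 0) : Algebra.norm K y ≠ 0 := by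
  rwa [Ne, Algebra.norm_eq_zero_iff]

/-- A nontrivial character takes a nontrivial value at a generator. -/
theorem apply_gen_ne_one {F : Type} [Field F] [Fintype F] {θ : MulChar F ℂ} (hθ : θ ≠ 1) {g : Fˣ}
    (hg : ∀ x : Fˣ, x ∈ Subgroup.zpowers g) : θ g ≠ 1 := by
  intro h
  apply hθ
  ext u
  obtain ⟨k, hk⟩ := Subgroup.mem_zpowers_iff.1 (hg u)
  rw [MulChar.one_apply_coe, ← hk]
  have : (θ.toUnitHom g : ℂˣ) = 1 := by
    apply Units.ext
    rw [MulChar.coe_toUnitHom, h, Units.val_one]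
  rw [← MulChar.coe_toUnitHom, map_zpow, this, one_zpow, Units.val_one]

/-- Two nontrivial quadratic characters are equal. -/
theorem quad_unique {F : Type} [Field F] [Fintype F] {θ θ' : MulChar F ℂ} (hθ : θ ≠ 1)
    (hθ' : θ' ≠ 1) (h2 : θ ^ 2 = 1) (h2' : θ' ^ 2 = 1) : θ = θ' := by
  obtain ⟨g, hg⟩ := IsCyclic.exists_generator (α := Fˣ)
  have hv : ∀ t : MulChar F ℂ, t ≠ 1 → t ^ 2 = 1 → t g = -1 := by
    intro t ht ht2
    have h1 := apply_gen_ne_one ht hg
    have h3 : (t g) ^ 2 = 1 := by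
      rw [← MulChar.pow_apply_coe, ht2, MulChar.one_apply_coe]
    rcases sq_eq_sq_iff_eq_or_eq_neg.1 (h3.trans (one_pow 2).symm) with h | h
    · exact absurd h h1
    · exact h
  ext u
  obtain ⟨k, hk⟩ := Subgroup.mem_zpowers_iff.1 (hg u)
  have : θ.toUnitHom g = θ'.toUnitHom g := by
    apply Units.ext
    rw [MulChar.coe_toUnitHom, MulChar.coe_toUnitHom, hv θ hθ h2, hv θ' hθ' h2']
  rw [← hk, ← MulChar.coe_toUnitHom, ← MulChar.coe_toUnitHom, map_zpow, map_zpow, this]

theorem pow_card_sub_one (χ : MulChar K ℂ) : χ ^ (Fintype.card K - 1) = 1 := by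
  ext u
  rw [MulChar.pow_apply_coe, MulChar.one_apply_coe, ← map_pow,
    FiniteField.pow_card_sub_one_eq_one _ u.ne_zero, MulChar.map_one]

theorem mulNorm_pow (χ : MulChar K ℂ) (n : ℕ) :
    (mulNorm (L := L) χ : MulChar L ℂ) ^ n = mulNorm (χ ^ n) := by
  ext u
  have hN : IsUnit (Algebra.norm K (u : L)) := (isUnit_iff_ne_zero.2 (norm_ne_zero' u.ne_zero))
  obtain ⟨w, hw⟩ := hN
  rw [MulChar.pow_apply_coe, mulNorm_apply, mulNorm_apply, ← hw, MulChar.pow_apply_coe]

theorem mulNorm_one : (mulNorm (L := L) (1 : MulChar K ℂ) : MulChar L ℂ) = 1 := by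
  ext u
  have hN : IsUnit (Algebra.norm K (u : L)) := (isUnit_iff_ne_zero.2 (norm_ne_zero' u.ne_zero))
  obtain ⟨w, hw⟩ := hN
  rw [mulNorm_apply, ← hw, MulChar.one_apply_coe, MulChar.one_apply_coe]

theorem mulNorm_ne_one {χ : MulChar K ℂ} (hχ : χ ≠ 1) :
    (mulNorm (L := L) χ : MulChar L ℂ) ≠ 1 := by
  intro h
  apply hχ
  ext u
  obtain ⟨z, hz⟩ := FiniteField.norm_surjective K L (u : K)
  have hz0 : z ≠ 0 := by
    rintro rfl
    rw [Algebra.norm_zero] at hz
    exact u.ne_zero hz.symm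
  obtain ⟨w, rfl⟩ : IsUnit z := isUnit_iff_ne_zero.2 hz0
  rw [MulChar.one_apply_coe, ← hz, ← mulNorm_apply, h, MulChar.one_apply_coe]

variable {X : MulChar L ℂ} {Y η : MulChar K ℂ}

theorem X_pow_eq (hη : η ≠ 1) (hη2 : η ^ 2 = 1)
    (hXY : X ^ 2 = mulNorm Y) (hX : X ^ (Fintype.card K - 1) ≠ 1) :
    X ^ (Fintype.card K - 1) = mulNorm η := by
  apply quad_unique hX (mulNorm_ne_one hη)
  · rw [← pow_mul, mul_comm, pow_mul, hXY, mulNorm_pow, pow_card_sub_one, mulNorm_one]
  · rw [mulNorm_pow, hη2, mulNorm_one]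

theorem X_sq_apply (hXY : X ^ 2 = mulNorm Y) (y : L) : X y ^ 2 = Y (Algebra.norm K y) := by
  rw [← mulNorm_apply, ← hXY, MulChar.pow_apply' _ two_ne_zero]

theorem X_pow_apply (hη : η ≠ 1) (hη2 : η ^ 2 = 1)
    (hXY : X ^ 2 = mulNorm Y) (hX : X ^ (Fintype.card K - 1) ≠ 1) (y : L) :
    X y ^ (Fintype.card K - 1) = η (Algebra.norm K y) := by
  have h1 : 1 < Fintype.card K := Fintype.one_lt_card
  rw [← mulNorm_apply, ← X_pow_eq hη hη2 hXY hX, MulChar.pow_apply' _ (by omega)]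

theorem X_frob (hη : η ≠ 1) (hη2 : η ^ 2 = 1)
    (hXY : X ^ 2 = mulNorm Y) (hX : X ^ (Fintype.card K - 1) ≠ 1) (y : L) :
    X (fr K L y) = X y * η (Algebra.norm K y) := by
  have h1 : 1 < Fintype.card K := Fintype.one_lt_card
  rw [← X_pow_apply hη hη2 hXY hX, fr_apply, map_pow, ← pow_succ']
  congr 1
  omega

theorem X_algebraMap (hf : Module.finrank K L = 2) (hη : η ≠ 1) (hη2 : η ^ 2 = 1)
    (hXY : X ^ 2 = mulNorm Y) (hX : X ^ (Fintype.card K - 1) ≠ 1) (k : K) :
    X (algebraMap K L k) = Y k * η k := by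
  obtain ⟨z, hz⟩ := FiniteField.norm_surjective K L k
  have h1 : 1 < Fintype.card K := Fintype.one_lt_card
  have e : algebraMap K L k = z ^ (2 + (Fintype.card K - 1)) := by
    rw [← hz, norm_eq hf, ← pow_succ']
    congr 1
    omega
  rw [e, map_pow, pow_add, X_sq_apply hXY, X_pow_apply hη hη2 hXY hX, hz]

theorem eta_sq (hη2 : η ^ 2 = 1) {k : K} (hk : k ≠ 0) : η k ^ 2 = 1 := by
  obtain ⟨u, rfl⟩ : IsUnit k := isUnit_iff_ne_zero.2 hk
  rw [← MulChar.pow_apply_coe, hη2, MulChar.one_apply_coe]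

theorem eta_of_isSquare (hη2 : η ^ 2 = 1) {k : K} (hk : k ≠ 0) (hs : IsSquare k) : η k = 1 := by
  obtain ⟨r, rfl⟩ := hs
  have hr : r ≠ 0 := fun h => hk (by rw [h, mul_zero])
  rw [map_mul, ← pow_two, eta_sq hη2 hr]

theorem eta_of_not_isSquare (hη : η ≠ 1) (hη2 : η ^ 2 = 1) {k : K}
    (hs : ¬ IsSquare k) : η k = -1 := by
  classical
  have hk : k ≠ 0 := by rintro rfl; exact hs IsSquare.zero
  obtain ⟨g, hg⟩ := IsCyclic.exists_generator (α := Kˣ)
  have h1 := apply_gen_ne_one hη hg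
  have hg1 : η (g : K) = -1 := by
    rcases sq_eq_sq_iff_eq_or_eq_neg.1 ((eta_sq hη2 g.ne_zero).trans (one_pow 2).symm) with h | h
    · exact absurd h h1
    · exact h
  have hgs : ¬ IsSquare (g : K) := by
    intro h
    exact h1 (eta_of_isSquare hη2 g.ne_zero h)
  have hkg : IsSquare (k * g) := by
    rw [← quadraticChar_neg_one_iff_not_isSquare] at hs hgs
    rw [← quadraticChar_one_iff_isSquare (mul_ne_zero hk g.ne_zero), map_mul, hs, hgs]
    norm_num
  have h3 := eta_of_isSquare hη2 (mul_ne_zero hk g.ne_zero) hkg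
  rw [map_mul, hg1] at h3
  linear_combination -h3

/-! ## Gauss sums -/

open Classical in
theorem sum_nonzero (f : K → ℂ) (h0 : f 0 = 0) :
    ∑ k, f k = ∑ k ∈ sqs K, f k + ∑ k ∈ univ.filter (fun k : K => ¬ IsSquare k), f k := by
  have e : (univ : Finset K) = ({0} ∪ sqs K) ∪ univ.filter (fun k : K => ¬ IsSquare k) := by
    ext k
    simp only [mem_univ, mem_union, mem_singleton, mem_filter, true_and, mem_sqs, true_iff]
    by_cases h : k = 0
    · exact Or.inl (Or.inl h)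
    · by_cases h1 : IsSquare k
      · exact Or.inl (Or.inr ⟨h, h1⟩)
      · exact Or.inr h1
  conv_lhs => rw [e]
  rw [Finset.sum_union, Finset.sum_union, Finset.sum_singleton, h0, zero_add]
  · rw [Finset.disjoint_left]
    intro k hk hk'
    rw [mem_singleton] at hk
    exact (mem_sqs.1 hk').1 hk
  · rw [Finset.disjoint_left]
    intro k hk hk'
    simp only [mem_union, mem_singleton, mem_sqs, mem_filter, mem_univ, true_and] at hk hk'
    rcases hk with hk | hk
    · rw [hk] at hk'; exact hk' IsSquare.zero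
    · exact hk' hk.2

theorem gauss_eta (hη : η ≠ 1) (hη2 : η ^ 2 = 1) {ψ : AddChar K ℂ} (hψ : ψ ≠ 1) :
    gaussSum η ψ = 1 + 2 * ∑ s ∈ sqs K, ψ s := by
  classical
  have h0 : η 0 = 0 := MulChar.map_nonunit _ not_isUnit_zero
  have h1 := AddChar.sum_eq_zero_of_ne_one hψ
  have h2 := sum_nonzero (fun k : K => ψ k - if k = 0 then 1 else 0) (by simp)
  have h3 : ∑ k : K, (ψ k - if k = 0 then 1 else 0) = -1 := by
    rw [Finset.sum_sub_distrib, h1, Finset.sum_ite_eq' univ (0 : K)]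
    simp
  have h4 : ∑ k ∈ sqs K, (ψ k - if k = 0 then 1 else 0) = ∑ k ∈ sqs K, ψ k := by
    refine Finset.sum_congr rfl fun k hk => ?_
    rw [if_neg (mem_sqs.1 hk).1, sub_zero]
  have h5 : ∑ k ∈ univ.filter (fun k : K => ¬ IsSquare k), (ψ k - if k = 0 then 1 else 0) =
      ∑ k ∈ univ.filter (fun k : K => ¬ IsSquare k), ψ k := by
    refine Finset.sum_congr rfl fun k hk => ?_
    rw [if_neg, sub_zero]
    rintro rfl
    exact (mem_filter.1 hk).2 IsSquare.zero
  rw [h3, h4, h5] at h2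
  rw [gaussSum, sum_nonzero _ (by rw [h0, zero_mul])]
  have h6 : ∑ k ∈ sqs K, η k * ψ k = ∑ k ∈ sqs K, ψ k := by
    refine Finset.sum_congr rfl fun k hk => ?_
    rw [eta_of_isSquare hη2 (mem_sqs.1 hk).1 (mem_sqs.1 hk).2, one_mul]
  have h7 : ∑ k ∈ univ.filter (fun k : K => ¬ IsSquare k), η k * ψ k =
      - ∑ k ∈ univ.filter (fun k : K => ¬ IsSquare k), ψ k := by
    rw [← Finset.sum_neg_distrib]
    refine Finset.sum_congr rfl fun k hk => ?_
    rw [eta_of_not_isSquare hη hη2 (mem_filter.1 hk).2, neg_one_mul]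
  rw [h6, h7]
  linear_combination h2

open Classical in
/-- A root of `T ^ 2 - t T + n` outside `K`. -/
noncomputable def rt (K L : Type) [Field K] [Field L] [Algebra K L] (d : K × K) : L :=
  if h : ∃ y : L, (∀ k : K, algebraMap K L k ≠ y) ∧ Algebra.trace K L y = d.1 ∧
    Algebra.norm K y = d.2 then h.choose else 0

theorem rt_spec (hf : Module.finrank K L = 2) (h2 : ringChar K ≠ 2) {d : K × K}
    (h : ¬ IsSquare (d.1 ^ 2 - 4 * d.2)) :
    (∀ k : K, algebraMap K L k ≠ rt K L d) ∧ Algebra.trace K L (rt K L d) = d.1 ∧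
      Algebra.norm K (rt K L d) = d.2 := by
  have h := exists_root (L := L) hf h2 h
  rw [rt, dif_pos h]
  exact h.choose_spec

open Classical in
/-- The Gauss sum of `X` over `L`. -/
theorem gauss_X (hf : Module.finrank K L = 2) (h2 : ringChar K ≠ 2) (hη : η ≠ 1)
    (hη2 : η ^ 2 = 1) (hXY : X ^ 2 = mulNorm Y) (hX : X ^ (Fintype.card K - 1) ≠ 1)
    (ψ : AddChar K ℂ) :
    gaussSum X (addTrace L ψ) = ∑ k : K, Y k * η k * ψ (2 * k) +
      2 * ∑ d ∈ prs K, ψ d.1 * X (rt K L d) := by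
  rw [gaussSum]
  -- split off `K`
  have e1 : ∑ y : L, X y * (addTrace L ψ) y =
      ∑ y ∈ univ.filter (fun y : L => ∃ k : K, algebraMap K L k = y), X y * (addTrace L ψ) y +
      ∑ y ∈ univ.filter (fun y : L => ¬ ∃ k : K, algebraMap K L k = y), X y * (addTrace L ψ) y :=
    (Finset.sum_filter_add_sum_filter_not univ _ _).symm
  rw [e1]
  congr 1
  · symm
    refine Finset.sum_bij (fun k _ => algebraMap K L k) ?_ ?_ ?_ ?_
    · intro k _
      exact mem_filter.2 ⟨mem_univ _, k, rfl⟩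
    · intro a _ b _ h
      exact (algebraMap K L).injective h
    · intro y hy
      obtain ⟨k, hk⟩ := (mem_filter.1 hy).2
      exact ⟨k, mem_univ _, hk⟩
    · intro k _
      rw [X_algebraMap hf hη hη2 hXY hX, addTrace_apply, Algebra.trace_algebraMap, hf,
        nsmul_eq_mul, Nat.cast_ofNat]
  · -- fibres
    set D : Finset (K × K) := univ.filter fun d => ¬ IsSquare (d.1 ^ 2 - 4 * d.2) with hD
    have hmaps : ∀ y ∈ univ.filter (fun y : L => ¬ ∃ k : K, algebraMap K L k = y),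
        (Algebra.trace K L y, Algebra.norm K y) ∈ D := by
      intro y hy
      rw [hD, mem_filter]
      refine ⟨mem_univ _, not_isSquare_disc hf h2 ?_⟩
      intro k hk
      exact (mem_filter.1 hy).2 ⟨k, hk⟩
    rw [← Finset.sum_fiberwise_of_maps_to hmaps, Finset.mul_sum]
    have hfib : ∀ d ∈ D, ∑ y ∈ (univ.filter (fun y : L => ¬ ∃ k : K, algebraMap K L k = y)).filter
        (fun y => (Algebra.trace K L y, Algebra.norm K y) = d), X y * (addTrace L ψ) y =
        ψ d.1 * (X (rt K L d) * (1 + η d.2)) := by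
      intro d hd
      have hd' : ¬ IsSquare (d.1 ^ 2 - 4 * d.2) := (mem_filter.1 hd).2
      obtain ⟨hr1, hr2, hr3⟩ := rt_spec (L := L) hf h2 hd'
      have hfr : fr K L (rt K L d) ≠ rt K L d := by
        intro h
        obtain ⟨k, hk⟩ := (fr_eq_iff hf h2 _).1 h
        exact hr1 k hk
      have hset : (univ.filter (fun y : L => ¬ ∃ k : K, algebraMap K L k = y)).filter
          (fun y => (Algebra.trace K L y, Algebra.norm K y) = d) =
          {rt K L d, fr K L (rt K L d)} := by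
        ext y
        simp only [mem_filter, mem_univ, true_and, mem_insert, mem_singleton]
        constructor
        · rintro ⟨_, hy⟩
          have h3 : Algebra.trace K L (rt K L d) = Algebra.trace K L y := by rw [hr2, ← hy]
          have h4 : Algebra.norm K (rt K L d) = Algebra.norm K y := by rw [hr3, ← hy]
          exact eq_or_eq_fr hf h3 h4
        · rintro (rfl | rfl)
          · refine ⟨?_, ?_⟩
            · rintro ⟨k, hk⟩; exact hr1 k hk
            · rw [hr2, hr3]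
          · refine ⟨?_, ?_⟩
            · intro h
              have := (fr_eq_iff hf h2 _).2 h
              rw [fr_fr hf] at this
              exact hfr this.symm
            · rw [trace_fr hf, norm_fr hf, hr2, hr3]
      rw [hset, Finset.sum_pair (Ne.symm hfr), addTrace_apply, addTrace_apply, trace_fr hf, hr2,
        X_frob hη hη2 hXY hX, hr3]
      ring
    rw [Finset.sum_congr rfl hfib]
    have hsub : prs K ⊆ D := by
      intro d hd
      rw [hD, mem_filter]
      exact ⟨mem_univ _, (mem_prs.1 hd).2.2⟩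
    rw [← Finset.sum_subset hsub]
    · refine Finset.sum_congr rfl fun d hd => ?_
      rw [eta_of_isSquare hη2 (mem_prs.1 hd).1 (mem_prs.1 hd).2.1]
      ring
    · intro d hd hd'
      have hd1 : ¬ IsSquare (d.1 ^ 2 - 4 * d.2) := (mem_filter.1 hd).2
      have : ¬ IsSquare d.2 := by
        intro h
        apply hd'
        refine mem_prs.2 ⟨?_, h, hd1⟩
        intro h0
        apply hd1
        rw [h0, mul_zero, sub_zero]
        exact IsSquare.sq _
      rw [eta_of_not_isSquare hη hη2 this]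
      ring

/-- The sum of the two sides is twice `B`. -/
theorem sum_eq (hf : Module.finrank K L = 2) (h2 : ringChar K ≠ 2) (hη : η ≠ 1)
    (hη2 : η ^ 2 = 1) (hXY : X ^ 2 = mulNorm Y) (hX : X ^ (Fintype.card K - 1) ≠ 1)
    {ψ : AddChar K ℂ} (hψ : ψ ≠ 1) :
    gaussSum X (addTrace L ψ) + gaussSum Y (ψ.mulShift 2) * gaussSum η ψ =
      2 * (∑ s ∈ sqs K, ψ (2 * s) * Y s + (∑ s ∈ sqs K, ψ s) * (∑ y : K, ψ (2 * y) * Y y) +
        ∑ d ∈ prs K, ψ d.1 * X (rt K L d)) := by
  classical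
  have hY0 : Y 0 = 0 := MulChar.map_nonunit _ not_isUnit_zero
  rw [gauss_X hf h2 hη hη2 hXY hX ψ, gauss_eta hη hη2 hψ]
  have e1 : gaussSum Y (ψ.mulShift 2) = ∑ y : K, ψ (2 * y) * Y y := by
    rw [gaussSum]
    refine Finset.sum_congr rfl fun y _ => ?_
    rw [AddChar.mulShift_apply, mul_comm]
  have e2 : ∑ k : K, Y k * η k * ψ (2 * k) + ∑ y : K, ψ (2 * y) * Y y =
      2 * ∑ s ∈ sqs K, ψ (2 * s) * Y s := by
    rw [← Finset.sum_add_distrib, sum_nonzero _ (by rw [hY0]; ring), Finset.mul_sum]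
    have e3 : ∑ k ∈ univ.filter (fun k : K => ¬ IsSquare k),
        (Y k * η k * ψ (2 * k) + ψ (2 * k) * Y k) = 0 := by
      refine Finset.sum_eq_zero fun k hk => ?_
      rw [eta_of_not_isSquare hη hη2 (mem_filter.1 hk).2]
      ring
    rw [e3, add_zero]
    refine Finset.sum_congr rfl fun k hk => ?_
    rw [eta_of_isSquare hη2 (mem_sqs.1 hk).1 (mem_sqs.1 hk).2]
    ring
  rw [e1]
  linear_combination e2

/-! ## Reduction modulo a maximal ideal over 2 -/

/-- The ring of algebraic integers in `ℂ`. -/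
local notation "𝒪" => (integralClosure ℤ ℂ)

theorem isIntegral_addChar (ψ : AddChar K ℂ) (x : K) : IsIntegral ℤ (ψ x) := by
  have h : ψ x ^ Fintype.card K = 1 := by
    rw [← AddChar.map_nsmul_eq_pow, nsmul_eq_mul, FiniteField.cast_card_eq_zero, zero_mul,
      AddChar.map_zero_eq_one]
  exact IsIntegral.of_pow Fintype.card_pos (by rw [h]; exact isIntegral_one)

theorem mulChar_pow_card {F : Type} [Field F] [Fintype F] (χ : MulChar F ℂ) {x : F} (hx : x ≠ 0) :
    χ x ^ (Fintype.card F - 1) = 1 := by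
  rw [← map_pow, FiniteField.pow_card_sub_one_eq_one _ hx, map_one]

theorem isIntegral_mulChar {F : Type} [Field F] [Fintype F] (χ : MulChar F ℂ) (x : F) :
    IsIntegral ℤ (χ x) := by
  by_cases hx : x = 0
  · subst hx
    rw [MulChar.map_nonunit _ not_isUnit_zero]
    exact isIntegral_zero
  · have h1 : 1 < Fintype.card F := Fintype.one_lt_card
    exact IsIntegral.of_pow (n := Fintype.card F - 1) (by omega)
      (by rw [mulChar_pow_card χ hx]; exact isIntegral_one)

theorem isIntegral_gaussSum {F : Type} [Field F] [Fintype F] (χ : MulChar F ℂ)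
    (ψ : AddChar F ℂ) : IsIntegral ℤ (gaussSum χ ψ) := by
  rw [gaussSum]
  exact IsIntegral.sum _ fun x _ => (isIntegral_mulChar χ x).mul (isIntegral_addChar ψ x)

/-- There is a maximal ideal over `2`. -/
theorem exists_maximal_two : ∃ M : Ideal 𝒪, M.IsMaximal ∧ (2 : 𝒪) ∈ M := by
  have h : Ideal.span {(2 : 𝒪)} ≠ ⊤ := by
    intro h
    rw [Ideal.span_singleton_eq_top] at h
    obtain ⟨u, hu⟩ := h
    have h1 : (2 : ℂ) * ((↑u⁻¹ : 𝒪) : ℂ) = 1 := by
      have h2 : (2 : 𝒪) * (↑u⁻¹ : 𝒪) = 1 := by rw [← hu, Units.mul_inv]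
      exact congrArg (Subtype.val) h2
    have h3 : ((↑u⁻¹ : 𝒪) : ℂ) = algebraMap ℚ ℂ (1 / 2) := by
      rw [eq_ratCast]
      push_cast
      linear_combination h1 / 2
    have h4 : IsIntegral ℤ (algebraMap ℚ ℂ (1 / 2)) := by
      rw [← h3]
      exact (↑u⁻¹ : 𝒪).2
    rw [isIntegral_algebraMap_iff (algebraMap ℚ ℂ).injective] at h4
    obtain ⟨z, hz⟩ := IsIntegrallyClosed.isIntegral_iff.1 h4
    have h5 : (2 * z : ℚ) = 1 := by
      have : (z : ℚ) = 1 / 2 := by simpa using hz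
      rw [this]; norm_num
    have h6 : 2 * z = 1 := by exact_mod_cast h5
    omega
  obtain ⟨M, hM, hle⟩ := Ideal.exists_le_maximal _ h
  exact ⟨M, hM, hle (Ideal.subset_span rfl)⟩

theorem pow_two_pow_eq_one {F : Type*} [Field F] (hF : (2 : F) = 0) {z : F} (a : ℕ)
    (h : z ^ 2 ^ a = 1) : z = 1 := by
  induction a with
  | zero => simpa using h
  | succ a ih =>
    apply ih
    have h1 : (z ^ 2 ^ a - 1) ^ 2 = 0 := by
      have : (z ^ 2 ^ a) ^ 2 = 1 := by rw [← pow_mul, ← pow_succ]; exact h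
      linear_combination this + (1 - z ^ 2 ^ a) * hF
    exact sub_eq_zero.1 (pow_eq_zero_iff two_ne_zero |>.1 h1)

theorem B_mem (M : Ideal 𝒪) [M.IsMaximal] (hM : (2 : 𝒪) ∈ M)
    (hf : Module.finrank K L = 2) (h2 : ringChar K ≠ 2)
    (hXY : X ^ 2 = mulNorm Y) (ψ : AddChar K ℂ) :
    ∃ B : 𝒪, B ∈ M ∧ (B : ℂ) =
      ∑ s ∈ sqs K, ψ (2 * s) * Y s + (∑ s ∈ sqs K, ψ s) * (∑ y : K, ψ (2 * y) * Y y) +
        ∑ d ∈ prs K, ψ d.1 * X (rt K L d) := by
  classical
  let ψ' : K → 𝒪 := fun x => ⟨ψ x, isIntegral_addChar ψ x⟩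
  let Y' : K → 𝒪 := fun x => ⟨Y x, isIntegral_mulChar Y x⟩
  let X' : L → 𝒪 := fun x => ⟨X x, isIntegral_mulChar X x⟩
  refine ⟨∑ s ∈ sqs K, ψ' (2 * s) * Y' s + (∑ s ∈ sqs K, ψ' s) * (∑ y : K, ψ' (2 * y) * Y' y) +
        ∑ d ∈ prs K, ψ' d.1 * X' (rt K L d), ?_, ?_⟩
  swap
  · push_cast
    rfl
  rw [← Ideal.Quotient.eq_zero_iff_mem]
  let _ : Field (𝒪 ⧸ M) := Ideal.Quotient.field M
  set mk : 𝒪 →+* 𝒪 ⧸ M := Ideal.Quotient.mk M with hmk
  have hR : (2 : 𝒪 ⧸ M) = 0 := by
    have : mk 2 = 0 := Ideal.Quotient.eq_zero_iff_mem.2 hM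
    rw [← this, map_ofNat]
  -- the additive character
  let ψb : AddChar K (𝒪 ⧸ M) :=
    { toFun := fun x => mk (ψ' x)
      map_zero_eq_one' := by
        have : ψ' 0 = 1 := Subtype.ext (AddChar.map_zero_eq_one ψ)
        show mk (ψ' 0) = 1
        rw [this, map_one]
      map_add_eq_mul' := by
        intro a b
        have : ψ' (a + b) = ψ' a * ψ' b := Subtype.ext (AddChar.map_add_eq_mul ψ a b)
        show mk (ψ' (a + b)) = mk (ψ' a) * mk (ψ' b)
        rw [this, map_mul] }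
  -- the odd part of `q - 1`
  have h1 : 1 < Fintype.card K := Fintype.one_lt_card
  obtain ⟨a, m, hm, hq⟩ := Nat.exists_eq_two_pow_mul_odd (n := Fintype.card K - 1) (by omega)
  obtain ⟨r, hr⟩ : ∃ r, m + 1 = 2 * r := ⟨(m + 1) / 2, by have := Nat.odd_iff.1 hm; omega⟩
  let c : K → 𝒪 ⧸ M := fun n => mk (Y' n) ^ r
  have hYm : ∀ y : K, y ≠ 0 → mk (Y' y) ^ m = 1 := by
    intro y hy
    apply pow_two_pow_eq_one hR a
    rw [← pow_mul, mul_comm m, ← hq, ← map_pow]
    have : Y' y ^ (Fintype.card K - 1) = 1 := Subtype.ext (by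
      push_cast
      exact mulChar_pow_card Y hy)
    rw [this, map_one]
  have hYc : ∀ y : K, mk (Y' y) = c (y ^ 2) := by
    intro y
    have e : Y' (y ^ 2) = Y' y ^ 2 := Subtype.ext (by push_cast; exact map_pow Y y 2)
    show _ = mk (Y' (y ^ 2)) ^ r
    rw [e, map_pow, ← pow_mul, ← hr, pow_succ]
    by_cases hy : y = 0
    · have : Y' y = 0 := Subtype.ext (by
        show Y y = 0
        rw [hy, MulChar.map_nonunit _ not_isUnit_zero])
      rw [this, map_zero, mul_zero]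
    · rw [hYm y hy, one_mul]
  have hXc : ∀ d ∈ prs K, mk (X' (rt K L d)) = c d.2 := by
    intro d hd
    obtain ⟨hd0, _, hd1⟩ := mem_prs.1 hd
    obtain ⟨hr1, hr2, hr3⟩ := rt_spec (L := L) hf h2 hd1
    have e : X' (rt K L d) ^ 2 = Y' d.2 := Subtype.ext (by
      push_cast
      show X (rt K L d) ^ 2 = Y d.2
      rw [X_sq_apply hXY, hr3])
    have hm1 : mk (X' (rt K L d)) ^ m = 1 := by
      apply pow_two_pow_eq_one hR (a + 1)
      rw [← pow_mul, pow_succ]
      have : m * (2 ^ a * 2) = 2 * (2 ^ a * m) := by ring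
      rw [this, ← hq, pow_mul, ← map_pow, e, ← map_pow]
      have : Y' d.2 ^ (Fintype.card K - 1) = 1 := Subtype.ext (by
        push_cast
        exact mulChar_pow_card Y hd0)
      rw [this, map_one]
    show _ = mk (Y' d.2) ^ r
    rw [← e, map_pow, ← pow_mul, ← hr, pow_succ, hm1, one_mul]
  -- apply the identity
  have key := char2_identity (two_ne h2) hR ψb c
  rw [map_add, map_add, map_sum, map_mul, map_sum, map_sum, map_sum]
  rw [← key]
  congr 1
  · congr 1
    · refine Finset.sum_congr rfl fun s _ => ?_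
      rw [map_mul, hYc]
      rfl
    · congr 1
      have e : ∑ y : K, mk (ψ' (2 * y) * Y' y) =
          ∑ y ∈ univ.filter (fun y : K => y ≠ 0), mk (ψ' (2 * y) * Y' y) := by
        symm
        apply Finset.sum_subset (Finset.filter_subset _ _)
        intro y _ hy
        have hy0 : y = 0 := by
          by_contra h
          exact hy (mem_filter.2 ⟨mem_univ _, h⟩)
        have : Y' y = 0 := Subtype.ext (by
          show Y y = 0
          rw [hy0, MulChar.map_nonunit _ not_isUnit_zero])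
        rw [this, mul_zero, map_zero]
      rw [e]
      refine Finset.sum_congr rfl fun s _ => ?_
      rw [map_mul, hYc]
      rfl
  · refine Finset.sum_congr rfl fun d hd => ?_
    rw [map_mul, hXc d hd]
    rfl

end chars

/-- **The sign.** -/
theorem sign (K L : Type) [Field K] [Fintype K] [Field L] [Fintype L] [Algebra K L]
    (X : MulChar L ℂ) (Y η : MulChar K ℂ) (ψ : AddChar K ℂ) (hψ : ψ ≠ 1) (h2 : ringChar K ≠ 2)
    (hη : η ≠ 1) (hη2 : η ^ 2 = 1) (hf : Module.finrank K L = 2) (hXY : X ^ 2 = mulNorm Y)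
    (hX : X ^ (Fintype.card K - 1) ≠ 1) :
    gaussSum X (addTrace L ψ) ≠ gaussSum Y (ψ.mulShift 2) * gaussSum η ψ := by
  intro heq
  obtain ⟨M, hMmax, hM⟩ := exists_maximal_two
  obtain ⟨B, hB, hB'⟩ := B_mem (X := X) (Y := Y) M hM hf h2 hXY ψ
  have hsum := sum_eq hf h2 hη hη2 hXY hX hψ
  rw [← hB', heq] at hsum
  have hP : (B : ℂ) = gaussSum Y (ψ.mulShift 2) * gaussSum η ψ := by
    linear_combination -hsum / 2
  -- `ψ` is primitive
  have hprim : ψ.IsPrimitive := AddChar.IsPrimitive.of_ne_one hψ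
  have hψ2 : ψ.mulShift 2 ≠ 1 := hprim (two_ne h2)
  have hprim2 : (ψ.mulShift 2).IsPrimitive := AddChar.IsPrimitive.of_ne_one hψ2
  -- the product divides an odd number
  have hodd : Fintype.card K % 2 = 1 := FiniteField.odd_card_of_char_ne_two h2
  obtain ⟨C, hC, n, hn, hCn⟩ : ∃ C : ℂ, IsIntegral ℤ C ∧ ∃ n : ℤ, n % 2 = 1 ∧ (B : ℂ) * C = n := by
    have h1 : gaussSum η ψ * gaussSum η⁻¹ ψ⁻¹ = Fintype.card K :=
      gaussSum_mul_gaussSum_eq_card hη hprim
    by_cases hY : Y = 1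
    · refine ⟨gaussSum η⁻¹ ψ⁻¹, isIntegral_gaussSum _ _, -(Fintype.card K : ℤ), by omega, ?_⟩
      rw [hP, hY, gaussSum_one_left hψ2]
      push_cast
      linear_combination -h1
    · have h3 : gaussSum Y (ψ.mulShift 2) * gaussSum Y⁻¹ (ψ.mulShift 2)⁻¹ = Fintype.card K :=
        gaussSum_mul_gaussSum_eq_card hY hprim2
      refine ⟨gaussSum Y⁻¹ (ψ.mulShift 2)⁻¹ * gaussSum η⁻¹ ψ⁻¹,
        (isIntegral_gaussSum _ _).mul (isIntegral_gaussSum _ _),
        (Fintype.card K : ℤ) * (Fintype.card K : ℤ), ?_, ?_⟩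
      · rw [Int.mul_emod]
        have : (Fintype.card K : ℤ) % 2 = 1 := by omega
        rw [this]; rfl
      · rw [hP]
        push_cast
        linear_combination (gaussSum η ψ * gaussSum η⁻¹ ψ⁻¹) * h3 + (Fintype.card K : ℂ) * h1
  have hnM : (n : integralClosure ℤ ℂ) ∈ M := by
    have : (n : integralClosure ℤ ℂ) = B * ⟨C, hC⟩ := Subtype.ext (by push_cast; exact hCn.symm)
    rw [this]
    exact M.mul_mem_right _ hB
  have h1M : (1 : integralClosure ℤ ℂ) ∈ M := by
    obtain ⟨k, hk⟩ : ∃ k, n = 2 * k + 1 := ⟨n / 2, by omega⟩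
    have : (1 : integralClosure ℤ ℂ) = n - k * 2 := by
      rw [hk]; push_cast; ring
    rw [this]
    exact M.sub_mem hnM (M.mul_mem_left _ hM)
  exact hMmax.ne_top ((Ideal.eq_top_iff_one M).2 h1M)

end Cfsg.Agent.H32.KGV
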